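/- Words that are not laws: in large alternating groups and in SL₂ over large fields.
Main results: `exists_perm_lift_ne_one`, `exists_alternating_lift_ne_one`,
`exists_sl2_lift_ne_one`, `NC` (the value of the word is non-central). -/
import Cfsg.Agent.EqLemmas

set_option autoImplicit false

namespace Cfsg.Agent.Law

open Equiv

/-- Some value of `w` in `K` fails to commute with some element. -/
def NC (w : FreeGroup ℕ) (K : Type*) [Group K] : Prop :=
  ∃ (f : ℕ → K) (g : K), ¬ Commute (FreeGroup.lift f w) g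

theorem lift_comp {α : Type*} {K H : Type*} [Group K] [Group H] (φ : K →* H) (f : α → K)
    (w : FreeGroup α) : FreeGroup.lift (fun i => φ (f i)) w = φ (FreeGroup.lift f w) := by
  have h : φ.comp (FreeGroup.lift f) = FreeGroup.lift (fun i => φ (f i)) := by
    apply FreeGroup.ext_hom
    intro a
    simp
  exact (DFunLike.congr_fun h w).symm

theorem NC.map {w : FreeGroup ℕ} {K H : Type*} [Group K] [Group H] (h : NC w K) (φ : K →* H)
    (hφ : Function.Injective φ) : NC w H := by
  obtain ⟨f, g, hfg⟩ := h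
  refine ⟨fun i => φ (f i), φ g, ?_⟩
  rw [lift_comp]
  intro hc
  apply hfg
  apply hφ
  rw [map_mul, map_mul]
  exact hc

/-- A non-central value gives a non-trivial value in any quotient by the centre. -/
theorem NC.quotient {w : FreeGroup ℕ} {K : Type*} [Group K] (h : NC w K) :
    ∃ f : ℕ → K ⧸ Subgroup.center K, FreeGroup.lift f w ≠ 1 := by
  obtain ⟨f, g, hfg⟩ := h
  refine ⟨fun i => QuotientGroup.mk' (Subgroup.center K) (f i), ?_⟩
  rw [lift_comp]
  intro hc
  apply hfg
  have hm : FreeGroup.lift f w ∈ Subgroup.center K := (QuotientGroup.eq_one_iff _).1 hc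
  exact (Subgroup.mem_center_iff.1 hm g).symm

theorem exists_perm_lift_ne_one (w : FreeGroup ℕ) (hw : w ≠ 1) :
    ∃ (k : ℕ) (f : ℕ → Perm (Fin k)), FreeGroup.lift f w ≠ 1 := by
  classical
  set L := w.toWord with hL
  have hne : L ≠ [] := by
    rw [hL]; simpa using hw
  refine ⟨L.length + 1, ?_⟩
  let R : ℕ → Fin (L.length + 1) → Fin (L.length + 1) → Prop := fun i a b =>
    ∃ j, ∃ h : j < L.length,
      (L[j] = (i, true) ∧ a.val = j + 1 ∧ b.val = j) ∨ (L[j] = (i, false) ∧ a.val = j ∧ b.val = j + 1)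
  have hred : ∀ j (h : j + 1 < L.length) (i : ℕ) (b b' : Bool),
      L[j] = (i, b) → L[j+1] = (i, b') → b = b' := by
    intro j h i b b' h1 h2
    have hr : FreeGroup.IsReduced L := FreeGroup.isReduced_toWord
    have hc := List.isChain_iff_getElem.1 hr j h
    rw [h1, h2] at hc
    exact hc rfl
  have hfun : ∀ i a b b', R i a b → R i a b' → b = b' := by
    rintro i a b b' ⟨j, hj, h1⟩ ⟨j', hj', h2⟩
    apply Fin.ext
    rcases h1 with ⟨e1, ha, hb⟩ | ⟨e1, ha, hb⟩ <;> rcases h2 with ⟨e2, ha', hb'⟩ | ⟨e2, ha', hb'⟩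
    · omega
    · obtain rfl : j' = j + 1 := by omega
      have := hred j hj' i _ _ e1 e2
      simp at this
    · obtain rfl : j = j' + 1 := by omega
      have := hred j' hj i _ _ e2 e1
      simp at this
    · omega
  have hinj : ∀ i a a' b, R i a b → R i a' b → a = a' := by
    rintro i a a' b ⟨j, hj, h1⟩ ⟨j', hj', h2⟩
    apply Fin.ext
    rcases h1 with ⟨e1, ha, hb⟩ | ⟨e1, ha, hb⟩ <;> rcases h2 with ⟨e2, ha', hb'⟩ | ⟨e2, ha', hb'⟩
    · omega
    · obtain rfl : j = j' + 1 := by omega
      have := hred j' hj i _ _ e2 e1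
      simp at this
    · obtain rfl : j' = j + 1 := by omega
      have := hred j hj' i _ _ e1 e2
      simp at this
    · omega
  have hext : ∀ i, ∃ σ : Perm (Fin (L.length + 1)), ∀ a b, R i a b → σ a = b := by
    intro i
    let g : {a // ∃ b, R i a b} → {b // ∃ a, R i a b} := fun a => ⟨a.2.choose, a.1, a.2.choose_spec⟩
    have hg : Function.Bijective g := by
      constructor
      · intro a a' h
        have h' : a.2.choose = a'.2.choose := congrArg Subtype.val h
        apply Subtype.ext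
        exact hinj i _ _ _ a.2.choose_spec (h' ▸ a'.2.choose_spec)
      · rintro ⟨b, a, hab⟩
        exact ⟨⟨a, b, hab⟩, Subtype.ext (hfun i a _ _ (Exists.choose_spec (⟨b, hab⟩ : ∃ b, R i a b)) hab)⟩
    refine ⟨(Equiv.ofBijective g hg).extendSubtype, fun a b hab => ?_⟩
    rw [Equiv.extendSubtype_apply_of_mem _ a ⟨b, hab⟩]
    exact hfun i a _ _ (Exists.choose_spec (⟨b, hab⟩ : ∃ b, R i a b)) hab
  choose σ hσ using hext
  refine ⟨σ, ?_⟩
  intro hone
  have key : ∀ j, j ≤ L.length →
      ((((L.drop j).map fun x => cond x.2 (σ x.1) (σ x.1)⁻¹).prod)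
        (Fin.last L.length)).val = j := by
    intro j hj
    induction hj using Nat.decreasingInduction with
    | self => simp
    | of_succ j hj ih =>
      rw [List.drop_eq_getElem_cons hj, List.map_cons, List.prod_cons, Perm.mul_apply]
      generalize hv : (((L.drop (j+1)).map fun x => cond x.2 (σ x.1) (σ x.1)⁻¹).prod)
        (Fin.last L.length) = v at ih ⊢
      cases hb : L[j] with
      | mk i b =>
        cases b
        · have hR : R i ⟨j, by omega⟩ v := ⟨j, hj, Or.inr ⟨hb, rfl, ih⟩⟩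
          have := hσ i _ _ hR
          show ((σ i)⁻¹ v).val = j
          rw [← this]; simp
        · have hR : R i v ⟨j, by omega⟩ := ⟨j, hj, Or.inl ⟨hb, ih, rfl⟩⟩
          have := hσ i _ _ hR
          show (σ i v).val = j
          rw [this]
  have h0 := key 0 (Nat.zero_le _)
  rw [List.drop_zero] at h0
  have hp : ((L.map fun x => cond x.2 (σ x.1) (σ x.1)⁻¹).prod) = 1 := by
    rw [← FreeGroup.lift_mk, show FreeGroup.mk L = w from FreeGroup.mk_toWord, hone]
  rw [hp] at h0
  simp at h0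
  exact hne h0

theorem exists_alternating_lift_ne_one (w : FreeGroup ℕ) (hw : w ≠ 1) :
    ∃ N : ℕ, ∀ n : ℕ, N ≤ n → ∃ f : ℕ → alternatingGroup (Fin n), FreeGroup.lift f w ≠ 1 := by
  obtain ⟨k, f, hf⟩ := exists_perm_lift_ne_one w hw
  refine ⟨k + k, fun n hn => ?_⟩
  let e : (Fin k ⊕ Fin k) ⊕ Fin (n - (k + k)) ≃ Fin n :=
    ((finSumFinEquiv.sumCongr (Equiv.refl _)).trans finSumFinEquiv).trans (finCongr (by omega))
  let φ : Perm (Fin k) →* Perm (Fin n) :=
    e.permCongrHom.toMonoidHom.comp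
      ((Perm.sumCongrHom _ _).comp
        (MonoidHom.prod ((Perm.sumCongrHom _ _).comp ((MonoidHom.id _).prod (MonoidHom.id _))) 1))
  have hφ : ∀ σ, φ σ = e.permCongr (Perm.sumCongr (Perm.sumCongr σ σ) 1) := fun σ => rfl
  have hmem : ∀ σ, φ σ ∈ alternatingGroup (Fin n) := by
    intro σ
    rw [Perm.mem_alternatingGroup, hφ, Perm.sign_permCongr, Perm.sign_sumCongr, Perm.sign_sumCongr,
      Perm.sign_one, Int.units_mul_self, one_mul]
  let ψ : Perm (Fin k) →* alternatingGroup (Fin n) := φ.codRestrict _ hmem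
  refine ⟨fun i => ψ (f i), ?_⟩
  rw [lift_comp]
  intro h1
  apply hf
  have h2 : φ (FreeGroup.lift f w) = 1 := congrArg Subtype.val h1
  rw [hφ] at h2
  ext x
  have h3 := Equiv.congr_fun h2 (e (Sum.inl (Sum.inl x)))
  simp [Equiv.permCongr_apply] at h3
  exact congrArg Fin.val h3

theorem nc_alternating (w : FreeGroup ℕ) (hw : w ≠ 1) :
    ∃ N : ℕ, ∀ n : ℕ, N ≤ n → NC w (alternatingGroup (Fin n)) := by
  obtain ⟨N, hN⟩ := exists_alternating_lift_ne_one w hw
  refine ⟨max N 4, fun n hn => ?_⟩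
  obtain ⟨f, hf⟩ := hN n (le_of_max_le_left hn)
  by_contra hnc
  apply hf
  have hm : FreeGroup.lift f w ∈ Subgroup.center (alternatingGroup (Fin n)) := by
    rw [Subgroup.mem_center_iff]
    intro g
    by_contra hg
    exact hnc ⟨f, g, fun hc => hg hc.symm⟩
  rw [alternatingGroup.center_eq_bot (by simpa using le_of_max_le_right hn)] at hm
  exact hm

open Polynomial Matrix in
/-- `[[a, 1], [-1, 0]]`. -/
def mA {R : Type*} [CommRing R] (a : R) : Matrix.SpecialLinearGroup (Fin 2) R :=
  ⟨!![a, 1; -1, 0], by simp [Matrix.det_fin_two]⟩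

/-- Image of the `i`-th generator. -/
noncomputable def genX (F : Type*) [Field F] (i : ℕ) :
    Matrix.SpecialLinearGroup (Fin 2) (Polynomial F) :=
  mA (Polynomial.X ^ (2 * i + 1)) * mA (Polynomial.X ^ (2 * i + 2))

section PingPong

open Polynomial Matrix

variable {F : Type*} [Field F]

/-- First coordinate dominates. -/
def UP (v : Fin 2 → F[X]) : Prop := (v 1).degree < (v 0).degree

/-- Second coordinate dominates. -/
def UM (v : Fin 2 → F[X]) : Prop := (v 0).degree < (v 1).degree

theorem degree_mul_gt {a u : F[X]} (ha : 0 < a.natDegree) (hu : u ≠ 0) :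
    u.degree < (a * u).degree := by
  have ha0 : a ≠ 0 := fun h => by simp [h] at ha
  rw [degree_eq_natDegree hu, degree_eq_natDegree (mul_ne_zero ha0 hu), natDegree_mul ha0 hu]
  exact_mod_cast by omega

theorem degree_mul_add_gt {a u v : F[X]} (ha : 0 < a.natDegree) (huv : v.degree < u.degree) :
    u.degree < (a * u + v).degree := by
  have hu : u ≠ 0 := fun h => by simp [h] at huv
  rw [degree_add_eq_left_of_degree_lt (huv.trans (degree_mul_gt ha hu))]
  exact degree_mul_gt ha hu

/-- The action on column vectors. -/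
noncomputable def act (g : Matrix.SpecialLinearGroup (Fin 2) F[X]) (v : Fin 2 → F[X]) :
    Fin 2 → F[X] :=
  (g : Matrix (Fin 2) (Fin 2) F[X]) *ᵥ v

theorem act_mA (a : F[X]) (v : Fin 2 → F[X]) : act (mA a) v = ![a * v 0 + v 1, -v 0] := by
  funext i
  fin_cases i <;> simp [act, mA, Matrix.mulVec, dotProduct, Fin.sum_univ_two]

theorem act_mA_inv (a : F[X]) (v : Fin 2 → F[X]) :
    act (mA a)⁻¹ v = ![-v 1, a * v 1 + v 0] := by
  rw [act, Matrix.SpecialLinearGroup.coe_inv]
  funext i
  fin_cases i <;>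
    simp [mA, Matrix.adjugate_fin_two, Matrix.mulVec, dotProduct, Fin.sum_univ_two, add_comm]

theorem act_mul (g h : Matrix.SpecialLinearGroup (Fin 2) F[X]) (v : Fin 2 → F[X]) :
    act (g * h) v = act g (act h v) := by
  simp only [act, Matrix.SpecialLinearGroup.coe_mul, Matrix.mulVec_mulVec]

theorem act_one (v : Fin 2 → F[X]) : act (1 : Matrix.SpecialLinearGroup (Fin 2) F[X]) v = v := by
  simp [act]

theorem up_act {a : F[X]} (ha : 0 < a.natDegree) {v : Fin 2 → F[X]} (hv : UP v) :
    UP (act (mA a) v) ∧ 1 ≤ (act (mA a) v 0).natDegree := by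
  have h := degree_mul_add_gt ha hv
  have h0 : v 0 ≠ 0 := fun h0 => by simp [UP, h0] at hv
  have hu : UP (act (mA a) v) := by
    rw [UP, act_mA]; simpa [degree_neg] using h
  refine ⟨hu, ?_⟩
  have h1 : (0 : WithBot ℕ) < (a * v 0 + v 1).degree :=
    lt_of_le_of_lt (zero_le_degree_iff.2 h0) h
  rw [act_mA]; simpa [Nat.one_le_iff_ne_zero, ← pos_iff_ne_zero] using
    natDegree_pos_iff_degree_pos.2 h1

theorem um_act {a : F[X]} (ha : 0 < a.natDegree) {v : Fin 2 → F[X]} (hv : UM v) :
    UM (act (mA a)⁻¹ v) ∧ 1 ≤ (act (mA a)⁻¹ v 1).natDegree := by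
  have h := degree_mul_add_gt ha hv
  have h0 : v 1 ≠ 0 := fun h0 => by simp [UM, h0] at hv
  have hu : UM (act (mA a)⁻¹ v) := by
    rw [UM, act_mA_inv]; simpa [degree_neg] using h
  refine ⟨hu, ?_⟩
  have h1 : (0 : WithBot ℕ) < (a * v 1 + v 0).degree :=
    lt_of_le_of_lt (zero_le_degree_iff.2 h0) h
  rw [act_mA_inv]; simpa [Nat.one_le_iff_ne_zero, ← pos_iff_ne_zero] using
    natDegree_pos_iff_degree_pos.2 h1

theorem junction_up {a b : F[X]} (hab : 0 < (b - a).natDegree) {v : Fin 2 → F[X]} (hv : UM v) :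
    UP (act (mA a * (mA b)⁻¹) v) := by
  have h := degree_mul_add_gt hab hv
  rw [act_mul]
  simp only [UP, act_mA, act_mA_inv, Matrix.cons_val_zero, Matrix.cons_val_one, neg_neg]
  convert h using 2
  ring

theorem junction_um {a b : F[X]} (hab : 0 < (b - a).natDegree) {v : Fin 2 → F[X]} (hv : UP v) :
    UM (act ((mA a)⁻¹ * mA b) v) := by
  have h := degree_mul_add_gt hab hv
  rw [act_mul]
  simp only [UM, act_mA, act_mA_inv, Matrix.cons_val_zero, Matrix.cons_val_one, neg_neg]
  convert h using 2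
  ring

theorem natDegree_X_pow_sub {m n : ℕ} (h : m ≠ n) (hm : 0 < m) (hn : 0 < n) :
    0 < ((X : F[X]) ^ m - X ^ n).natDegree := by
  rcases lt_or_gt_of_ne h with h | h
  · rw [natDegree_sub_eq_right_of_natDegree_lt (by simpa using h)]
    simpa using hn
  · rw [natDegree_sub_eq_left_of_natDegree_lt (by simpa using h)]
    simpa using hm

theorem pos_natDegree_X_pow (m : ℕ) : 0 < ((X : F[X]) ^ (m + 1)).natDegree := by simp

theorem sl2_lift_ne_one (F : Type*) [Field F] (w : FreeGroup ℕ) (hw : w ≠ 1) :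
    FreeGroup.lift (genX F) w ≠ 1 := by
  have hred : FreeGroup.IsReduced w.toWord := FreeGroup.isReduced_toWord
  let e0 : Fin 2 → F[X] := ![1, 0]
  let e1 : Fin 2 → F[X] := ![0, 1]
  have main : ∀ (L : List (ℕ × Bool)) (hL : L ≠ []), FreeGroup.IsReduced L →
      ∀ s, s = (if (L.getLast hL).2 then e0 else e1) →
      (((L.head hL).2 = true ∧ ∃ z, UP z ∧
          act ((L.map fun x => cond x.2 (genX F x.1) (genX F x.1)⁻¹).prod) s
            = act (mA (X ^ (2 * (L.head hL).1 + 1))) z) ∨
       ((L.head hL).2 = false ∧ ∃ z, UM z ∧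
          act ((L.map fun x => cond x.2 (genX F x.1) (genX F x.1)⁻¹).prod) s
            = act (mA (X ^ (2 * (L.head hL).1 + 2)))⁻¹ z)) := by
    intro L
    induction L with
    | nil => intro hL; exact absurd rfl hL
    | cons x L ih =>
      intro _ hr s hs
      obtain ⟨i, b⟩ := x
      by_cases hL : L = []
      · subst hL
        cases b
        · right
          refine ⟨rfl, act (mA (X ^ (2 * i + 1)))⁻¹ s, (um_act (pos_natDegree_X_pow _) ?_).1, ?_⟩
          · simp [hs, e1, UM]
          · simp [genX, act_mul]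
        · left
          refine ⟨rfl, act (mA (X ^ (2 * i + 2))) s, (up_act (pos_natDegree_X_pow _) ?_).1, ?_⟩
          · simp [hs, e0, UP]
          · simp [genX, act_mul]
      · have hs' : s = if (L.getLast hL).2 then e0 else e1 := by
          rw [hs, List.getLast_cons hL]
        have hr' := List.isChain_cons.1 hr
        have hadj : i = (L.head hL).1 → b = (L.head hL).2 := fun h =>
          hr'.1 (L.head hL) (by simp [List.head?_eq_some_head hL]) h
        obtain ⟨hb', z, hz, he⟩ | ⟨hb', z, hz, he⟩ := ih hL hr'.2 s hs'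
        · cases b
          · right
            refine ⟨rfl, act ((mA (X ^ (2 * i + 1)))⁻¹ * mA (X ^ (2 * (L.head hL).1 + 1))) z,
              junction_um ?_ hz, ?_⟩
            · exact natDegree_X_pow_sub (fun h => by
                have := hadj (by omega); rw [hb'] at this; simp at this) (by omega) (by omega)
            · rw [List.map_cons, List.prod_cons, act_mul, he]; simp [genX, act_mul]
          · left
            refine ⟨rfl, act (mA (X ^ (2 * i + 2))) (act (mA (X ^ (2 * (L.head hL).1 + 1))) z),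
              (up_act (pos_natDegree_X_pow _) (up_act (pos_natDegree_X_pow _) hz).1).1, ?_⟩
            rw [List.map_cons, List.prod_cons, act_mul, he]; simp [genX, act_mul]
        · cases b
          · right
            refine ⟨rfl, act (mA (X ^ (2 * i + 1)))⁻¹ (act (mA (X ^ (2 * (L.head hL).1 + 2)))⁻¹ z),
              (um_act (pos_natDegree_X_pow _) (um_act (pos_natDegree_X_pow _) hz).1).1, ?_⟩
            rw [List.map_cons, List.prod_cons, act_mul, he]; simp [genX, act_mul]
          · left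
            refine ⟨rfl, act (mA (X ^ (2 * i + 2)) * (mA (X ^ (2 * (L.head hL).1 + 2)))⁻¹) z,
              junction_up ?_ hz, ?_⟩
            · exact natDegree_X_pow_sub (fun h => by
                have := hadj (by omega); rw [hb'] at this; simp at this) (by omega) (by omega)
            · rw [List.map_cons, List.prod_cons, act_mul, he]; simp [genX, act_mul]
  intro hone
  have hne : w.toWord ≠ [] := by simpa using hw
  have hp : ((w.toWord.map fun x => cond x.2 (genX F x.1) (genX F x.1)⁻¹).prod) = 1 := by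
    rw [← FreeGroup.lift_mk, FreeGroup.mk_toWord, hone]
  obtain ⟨-, z, hz, he⟩ | ⟨-, z, hz, he⟩ := main w.toWord hne hred _ rfl
  · obtain ⟨h1, h2⟩ := up_act (F := F) (a := X ^ (2 * (w.toWord.head hne).1 + 1))
      (pos_natDegree_X_pow _) hz
    rw [← he, hp, act_one] at h1 h2
    split_ifs at h1 h2 <;> simp [e0, e1, UP] at h1 h2
  · obtain ⟨h1, h2⟩ := um_act (F := F) (a := X ^ (2 * (w.toWord.head hne).1 + 2))
      (pos_natDegree_X_pow _) hz
    rw [← he, hp, act_one] at h1 h2
    split_ifs at h1 h2 <;> simp [e0, e1, UM] at h1 h2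

end PingPong

open Polynomial in
theorem exists_degree_bound.{u} (w : FreeGroup ℕ) :
    ∃ D : ℕ, ∀ (F : Type u) [Field F] (i j : Fin 2),
      ((FreeGroup.lift (genX F) w : Matrix.SpecialLinearGroup (Fin 2) F[X]) :
        Matrix (Fin 2) (Fin 2) F[X]) i j ∈ degreeLE F (D : WithBot ℕ) := by
  have hx : ∀ a : ℕ, ∀ (F : Type u) [Field F] (i j : Fin 2),
      ((genX F a : Matrix.SpecialLinearGroup (Fin 2) F[X]) : Matrix (Fin 2) (Fin 2) F[X]) i j
        ∈ degreeLE F ((4 * a + 3 : ℕ) : WithBot ℕ) := by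
    intro a F _ i j
    rw [mem_degreeLE, ← natDegree_le_iff_degree_le, genX, Matrix.SpecialLinearGroup.coe_mul,
      Matrix.mul_apply, Fin.sum_univ_two]
    refine (natDegree_add_le _ _).trans (max_le ?_ ?_) <;>
      refine natDegree_mul_le.trans ?_ <;>
      fin_cases i <;> fin_cases j <;> simp [mA] <;> omega
  induction w using FreeGroup.induction_on with
  | C1 =>
    refine ⟨0, fun F _ i j => ?_⟩
    rw [map_one, mem_degreeLE]
    fin_cases i <;> fin_cases j <;> simp
  | of a => exact ⟨4 * a + 3, fun F _ i j => by simpa using hx a F i j⟩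
  | inv_of a _ =>
    refine ⟨4 * a + 3, fun F _ i j => ?_⟩
    rw [map_inv, FreeGroup.lift_apply_of, Matrix.SpecialLinearGroup.coe_inv, Matrix.adjugate_fin_two]
    fin_cases i <;> fin_cases j <;> simp only [Matrix.of_apply, Matrix.cons_val', Matrix.cons_val_zero, Matrix.cons_val_one, Fin.zero_eta, Fin.mk_one, Matrix.empty_val', Matrix.cons_val_fin_one, Submodule.neg_mem_iff] <;> exact hx a F _ _
  | mul x y hx' hy' =>
    obtain ⟨D, hD⟩ := hx'
    obtain ⟨D', hD'⟩ := hy'
    refine ⟨D + D', fun F _ i j => ?_⟩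
    rw [map_mul, Matrix.SpecialLinearGroup.coe_mul, Matrix.mul_apply, Fin.sum_univ_two,
      mem_degreeLE, Nat.cast_add]
    refine (degree_add_le _ _).trans (max_le ?_ ?_) <;>
      exact (degree_mul_le _ _).trans
        (add_le_add (mem_degreeLE.1 (hD F _ _)) (mem_degreeLE.1 (hD' F _ _)))

open Polynomial in
theorem exists_sl2_lift_ne_one.{u} (w : FreeGroup ℕ) (hw : w ≠ 1) :
    ∃ N : ℕ, ∀ (F : Type u) [Field F] [Fintype F], N ≤ Fintype.card F →
      ∃ f : ℕ → Matrix.SpecialLinearGroup (Fin 2) F, FreeGroup.lift f w ≠ 1 := by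
  obtain ⟨D, hD⟩ := exists_degree_bound.{u} w
  refine ⟨D + 2, fun F _ _ hcard => ?_⟩
  have hW := sl2_lift_ne_one F w hw
  obtain ⟨i, j, hij⟩ : ∃ i j, ((FreeGroup.lift (genX F) w : Matrix.SpecialLinearGroup (Fin 2) F[X]) :
      Matrix (Fin 2) (Fin 2) F[X]) i j - (1 : Matrix (Fin 2) (Fin 2) F[X]) i j ≠ 0 := by
    by_contra hc
    push Not at hc
    exact hW (Subtype.ext (Matrix.ext fun i j => sub_eq_zero.1 (hc i j)))
  generalize hp : ((FreeGroup.lift (genX F) w : Matrix.SpecialLinearGroup (Fin 2) F[X]) :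
      Matrix (Fin 2) (Fin 2) F[X]) i j - (1 : Matrix (Fin 2) (Fin 2) F[X]) i j = p at hij
  have hdeg : p.natDegree ≤ D := by
    rw [natDegree_le_iff_degree_le, ← mem_degreeLE, ← hp]
    refine Submodule.sub_mem _ (hD F i j) ?_
    rw [mem_degreeLE]
    fin_cases i <;> fin_cases j <;> simp
  obtain ⟨t, ht⟩ := exists_eval_ne_zero_of_natDegree_lt_card p hij
    (by rw [Cardinal.mk_fintype]; exact_mod_cast (by omega))
  let ev : Matrix.SpecialLinearGroup (Fin 2) F[X] →* Matrix.SpecialLinearGroup (Fin 2) F :=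
    Matrix.SpecialLinearGroup.map (evalRingHom t)
  refine ⟨fun a => ev (genX F a), ?_⟩
  rw [lift_comp]
  intro h1
  apply ht
  have h2 := congrFun (congrFun (congrArg Subtype.val h1) i) j
  rw [← hp, eval_sub]
  have h3 : eval t ((1 : Matrix (Fin 2) (Fin 2) F[X]) i j) = (1 : Matrix (Fin 2) (Fin 2) F) i j := by
    fin_cases i <;> fin_cases j <;> simp
  rw [h3, sub_eq_zero]
  simpa [ev] using h2

theorem nc_sl2.{u} (w : FreeGroup ℕ) (hw : w ≠ 1) :
    ∃ N : ℕ, ∀ (F : Type u) [Field F] [Fintype F], N ≤ Fintype.card F →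
      NC w (Matrix.SpecialLinearGroup (Fin 2) F) := by
  have hw2 : w ^ 2 ≠ 1 := fun h => hw ((pow_eq_one_iff_left (two_ne_zero)).1 h)
  obtain ⟨N, hN⟩ := exists_sl2_lift_ne_one.{u} (w ^ 2) hw2
  refine ⟨N, fun F _ _ hc => ?_⟩
  obtain ⟨f, hf⟩ := hN F hc
  by_contra hnc
  apply hf
  have hm : FreeGroup.lift f w ∈ Subgroup.center (Matrix.SpecialLinearGroup (Fin 2) F) := by
    rw [Subgroup.mem_center_iff]
    intro g
    by_contra hg
    exact hnc ⟨f, g, fun h => hg h.symm⟩
  obtain ⟨r, hr, hA⟩ := Matrix.SpecialLinearGroup.mem_center_iff.1 hm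
  rw [map_pow]
  apply Subtype.ext
  rw [Matrix.SpecialLinearGroup.coe_pow, ← hA, ← map_pow]
  rw [Fintype.card_fin] at hr
  simp [hr]

end Cfsg.Agent.Law
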