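/- A word that is not a law has non-central values in the classical groups that are large.
Main results: `altToSL`, `blockSL`, `hyp`, `altToSU`, `sl2ToSU` (embeddings), `nc_commutator`,
`nc_sl`, `nc_sp`, `nc_omega_*`, `nc_su`. -/
import Cfsg.Agent.Lib.Law.Basic

set_option autoImplicit false

namespace Cfsg.Agent.Law

open Matrix Equiv

section generic

variable {K : Type*} [Group K] {G : Type*} [Group G]

/-- A map from a perfect group lands in the commutator subgroup. -/
theorem mem_commutator_of_perfect (φ : K →* G) (hK : commutator K = ⊤) (k : K) :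
    φ k ∈ commutator G := by
  have h : (commutator K).map φ ≤ commutator G := by
    rw [commutator_def, commutator_def, Subgroup.map_commutator]
    exact Subgroup.commutator_mono le_top le_top
  exact h ⟨k, by rw [hK]; trivial, rfl⟩

theorem nc_commutator {w : FreeGroup ℕ} (h : NC w K) (φ : K →* G) (hφ : Function.Injective φ)
    (hK : commutator K = ⊤) : NC w ↥(commutator G) :=
  h.map (φ.codRestrict (commutator G) (mem_commutator_of_perfect φ hK))
    fun _ _ hab => hφ (congrArg Subtype.val hab)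

end generic

section embeddings

variable {R : Type*} [CommRing R]

/-- Even permutations as matrices of determinant one. -/
def altToSL (n : ℕ) (R : Type*) [CommRing R] :
    alternatingGroup (Fin n) →* SpecialLinearGroup (Fin n) R where
  toFun σ := ⟨(σ : Perm (Fin n))⁻¹.permMatrix R, by
    rw [det_permutation, Perm.sign_inv, Perm.mem_alternatingGroup.1 σ.2]; simp⟩
  map_one' := by apply Subtype.ext; simp
  map_mul' a b := by
    apply Subtype.ext
    show _ = (a : Perm (Fin n))⁻¹.permMatrix R * (b : Perm (Fin n))⁻¹.permMatrix R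
    simp only [Subgroup.coe_mul, _root_.mul_inv_rev, permMatrix_mul]

theorem altToSL_injective (n : ℕ) [Nontrivial R] : Function.Injective (altToSL n R) := by
  intro a b h
  have h' : (a : Perm (Fin n))⁻¹.permMatrix R = (b : Perm (Fin n))⁻¹.permMatrix R :=
    congrArg Subtype.val h
  have h'' := PEquiv.toMatrix_injective h'
  apply Subtype.ext
  apply inv_injective
  ext x
  have := congrArg (fun e : PEquiv (Fin n) (Fin n) => e x) h''
  simpa [Equiv.toPEquiv_apply] using congrArg (Option.map Fin.val) this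

/-- The index split used for the block embedding. -/
def split (n : ℕ) (hn : 2 ≤ n) : Fin 2 ⊕ Fin (n - 2) ≃ Fin n :=
  finSumFinEquiv.trans (finCongr (by omega))

/-- `SL₂` as a block of `SLₙ`. -/
def blockSL (n : ℕ) (hn : 2 ≤ n) (R : Type*) [CommRing R] :
    SpecialLinearGroup (Fin 2) R →* SpecialLinearGroup (Fin n) R where
  toFun A := ⟨(fromBlocks (A : Matrix (Fin 2) (Fin 2) R) 0 0 1).submatrix (split n hn).symm
      (split n hn).symm, by
    rw [det_submatrix_equiv_self, det_fromBlocks_zero₂₁, det_one, mul_one, A.2]⟩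
  map_one' := by apply Subtype.ext; simp [fromBlocks_one]
  map_mul' A B := by
    apply Subtype.ext
    show _ = (fromBlocks (A : Matrix (Fin 2) (Fin 2) R) 0 0 1).submatrix (split n hn).symm
      (split n hn).symm * (fromBlocks (B : Matrix (Fin 2) (Fin 2) R) 0 0 1).submatrix
        (split n hn).symm (split n hn).symm
    simp [submatrix_mul_equiv, fromBlocks_multiply]

theorem blockSL_injective (n : ℕ) (hn : 2 ≤ n) : Function.Injective (blockSL n hn R) := by
  intro A B h
  have h' : (fromBlocks (A : Matrix (Fin 2) (Fin 2) R) 0 0 1).submatrix (split n hn).symm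
      (split n hn).symm = (fromBlocks (B : Matrix (Fin 2) (Fin 2) R) 0 0 1).submatrix
        (split n hn).symm (split n hn).symm := congrArg Subtype.val h
  apply Subtype.ext
  ext i j
  have := congrFun (congrFun h' (split n hn (Sum.inl i))) (split n hn (Sum.inl j))
  simpa using this

/-- `A ↦ diag(A, A⁻ᵀ)`. -/
def hyp (m : ℕ) (R : Type*) [CommRing R] :
    SpecialLinearGroup (Fin m) R →* Matrix (Fin m ⊕ Fin m) (Fin m ⊕ Fin m) R where
  toFun A := fromBlocks (A : Matrix (Fin m) (Fin m) R) 0 0
    ((A⁻¹ : SpecialLinearGroup (Fin m) R) : Matrix (Fin m) (Fin m) R)ᵀ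
  map_one' := by simp [fromBlocks_one]
  map_mul' A B := by
    have h1 : ((A * B : SpecialLinearGroup (Fin m) R) : Matrix (Fin m) (Fin m) R) = A.1 * B.1 := rfl
    have h2 : (((A * B)⁻¹ : SpecialLinearGroup (Fin m) R) : Matrix (Fin m) (Fin m) R)
        = (B⁻¹).1 * (A⁻¹).1 := by rw [_root_.mul_inv_rev]; rfl
    rw [h1, h2, transpose_mul, fromBlocks_multiply]
    simp

theorem hyp_injective (m : ℕ) : Function.Injective (hyp m R) := by
  intro A B h
  exact Subtype.ext (congrArg Matrix.toBlocks₁₁ h)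

theorem coe_mul_coe_inv {m : ℕ} (A : SpecialLinearGroup (Fin m) R) :
    (A : Matrix (Fin m) (Fin m) R) *
      ((A⁻¹ : SpecialLinearGroup (Fin m) R) : Matrix (Fin m) (Fin m) R) = 1 :=
  congrArg Subtype.val (mul_inv_cancel A)

theorem coe_inv_mul_coe {m : ℕ} (A : SpecialLinearGroup (Fin m) R) :
    ((A⁻¹ : SpecialLinearGroup (Fin m) R) : Matrix (Fin m) (Fin m) R) *
      (A : Matrix (Fin m) (Fin m) R) = 1 :=
  congrArg Subtype.val (inv_mul_cancel A)

theorem hyp_pairing {m : ℕ} (A : SpecialLinearGroup (Fin m) R) (x y : Fin m → R) :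
    ((A : Matrix (Fin m) (Fin m) R) *ᵥ x) ⬝ᵥ
      (((A⁻¹ : SpecialLinearGroup (Fin m) R) : Matrix (Fin m) (Fin m) R)ᵀ *ᵥ y) = x ⬝ᵥ y := by
  rw [dotProduct_comm, mulVec_transpose, ← dotProduct_mulVec, mulVec_mulVec, coe_inv_mul_coe,
    one_mulVec, dotProduct_comm]

variable {F : Type*} [Field F]

/-- `SLₘ → Sp₂ₘ`. -/
def slToSp (m : ℕ) (F : Type*) [Field F] :
    SpecialLinearGroup (Fin m) F →* symplecticGroup (Fin m) F :=
  (hyp m F).codRestrict (symplecticGroup (Fin m) F) fun A => by
    rw [SymplecticGroup.mem_iff]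
    simp only [hyp, MonoidHom.coe_mk, OneHom.coe_mk, Matrix.J, fromBlocks_transpose,
      fromBlocks_multiply, transpose_transpose, transpose_zero, Matrix.mul_zero, Matrix.zero_mul,
      add_zero, zero_add, Matrix.mul_one, Matrix.mul_neg, Matrix.neg_mul, neg_zero]
    rw [← transpose_mul, coe_mul_coe_inv, transpose_one]

theorem slToSp_injective (m : ℕ) : Function.Injective (slToSp m F) :=
  fun _ _ h => hyp_injective m (congrArg Subtype.val h)

/-- A matrix representation preserving `Q`, as a map to the isometry group. -/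
def toIsometry {K : Type*} [Group K] {ι : Type} [Fintype ι] [DecidableEq ι] (Q : (ι → F) → F)
    (φ : K →* Matrix ι ι F) (h : ∀ k v, Q (φ k *ᵥ v) = Q v) : K →* isometryGroup F Q :=
  φ.toHomUnits.codRestrict _ fun k u v => by
    simpa using h k u

theorem toIsometry_injective {K : Type*} [Group K] {ι : Type} [Fintype ι] [DecidableEq ι]
    (Q : (ι → F) → F) (φ : K →* Matrix ι ι F) (h : ∀ k v, Q (φ k *ᵥ v) = Q v)
    (hφ : Function.Injective φ) : Function.Injective (toIsometry Q φ h) :=
  fun _ _ e => hφ (congrArg (fun z : isometryGroup F Q => ((z : GL ι F) : Matrix ι ι F)) e)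

/-- Extension of a matrix representation by the identity on further coordinates, on the right. -/
def padR {K : Type*} [Group K] {ι κ : Type} [Fintype ι] [DecidableEq ι] [Fintype κ] [DecidableEq κ]
    (φ : K →* Matrix ι ι F) : K →* Matrix (ι ⊕ κ) (ι ⊕ κ) F where
  toFun k := fromBlocks (φ k) 0 0 1
  map_one' := by simp [fromBlocks_one]
  map_mul' a b := by simp [fromBlocks_multiply]

/-- Extension of a matrix representation by the identity on further coordinates, on the left. -/
def padL {K : Type*} [Group K] {ι κ : Type} [Fintype ι] [DecidableEq ι] [Fintype κ] [DecidableEq κ]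
    (φ : K →* Matrix ι ι F) : K →* Matrix (κ ⊕ ι) (κ ⊕ ι) F where
  toFun k := fromBlocks 1 0 0 (φ k)
  map_one' := by simp [fromBlocks_one]
  map_mul' a b := by simp [fromBlocks_multiply]

theorem hyp_mulVec_inl {m : ℕ} (A : SpecialLinearGroup (Fin m) F) (v : Fin m ⊕ Fin m → F) :
    (fun i => (hyp m F A *ᵥ v) (Sum.inl i))
      = (A : Matrix (Fin m) (Fin m) F) *ᵥ (v ∘ Sum.inl) := by
  funext i; simp [hyp, fromBlocks_mulVec]

theorem hyp_mulVec_inr {m : ℕ} (A : SpecialLinearGroup (Fin m) F) (v : Fin m ⊕ Fin m → F) :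
    (fun i => (hyp m F A *ᵥ v) (Sum.inr i))
      = ((A⁻¹ : SpecialLinearGroup (Fin m) F) : Matrix (Fin m) (Fin m) F)ᵀ *ᵥ (v ∘ Sum.inr) := by
  funext i; simp [hyp, fromBlocks_mulVec]

theorem hyp_quad {m : ℕ} (A : SpecialLinearGroup (Fin m) F) (v : Fin m ⊕ Fin m → F) :
    quadFormPlus m F (hyp m F A *ᵥ v) = quadFormPlus m F v := by
  have h := hyp_pairing A (v ∘ Sum.inl) (v ∘ Sum.inr)
  rw [← hyp_mulVec_inl A v, ← hyp_mulVec_inr A v] at h
  exact h

/-- `SLₘ` in `O⁺₂ₘ`. -/
noncomputable def slToPlus (m : ℕ) (F : Type*) [Field F] :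
    SpecialLinearGroup (Fin m) F →* isometryGroup F (quadFormPlus m F) :=
  toIsometry _ (hyp m F) hyp_quad

/-- `SLₘ` in `O₂ₘ₊₁`. -/
noncomputable def slToOdd (m : ℕ) (F : Type*) [Field F] :
    SpecialLinearGroup (Fin m) F →* isometryGroup F (quadFormOdd m F) :=
  toIsometry _ (padL (hyp m F)) fun A v => by
    have h := hyp_quad A (v ∘ Sum.inr)
    simp only [quadFormPlus] at h
    simp only [quadFormOdd, padL, MonoidHom.coe_mk, OneHom.coe_mk, fromBlocks_mulVec,
      Sum.elim_inl, Sum.elim_inr, one_mulVec, zero_mulVec, add_zero, zero_add]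
    rw [h]
    simp

/-- `SLₘ` in `O⁻₂ₘ₊₂`. -/
noncomputable def slToMinus (m : ℕ) (F : Type*) [Field F] (a b : F) :
    SpecialLinearGroup (Fin m) F →* isometryGroup F (quadFormMinus m F a b) :=
  toIsometry _ (padR (hyp m F)) fun A v => by
    have h := hyp_quad A (v ∘ Sum.inl)
    simp only [quadFormPlus] at h
    simp only [quadFormMinus, padR, MonoidHom.coe_mk, OneHom.coe_mk, fromBlocks_mulVec,
      Sum.elim_inl, Sum.elim_inr, one_mulVec, zero_mulVec, add_zero, zero_add]
    rw [h]
    simp

theorem padL_injective {K : Type*} [Group K] {ι κ : Type} [Fintype ι] [DecidableEq ι] [Fintype κ]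
    [DecidableEq κ] (φ : K →* Matrix ι ι F) (hφ : Function.Injective φ) :
    Function.Injective (padL (κ := κ) φ) :=
  fun _ _ h => hφ (congrArg Matrix.toBlocks₂₂ h)

theorem padR_injective {K : Type*} [Group K] {ι κ : Type} [Fintype ι] [DecidableEq ι] [Fintype κ]
    [DecidableEq κ] (φ : K →* Matrix ι ι F) (hφ : Function.Injective φ) :
    Function.Injective (padR (κ := κ) φ) :=
  fun _ _ h => hφ (congrArg Matrix.toBlocks₁₁ h)

theorem slToPlus_injective (m : ℕ) : Function.Injective (slToPlus m F) :=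
  toIsometry_injective _ _ _ (hyp_injective m)

theorem slToOdd_injective (m : ℕ) : Function.Injective (slToOdd m F) :=
  toIsometry_injective _ _ _ (padL_injective _ (hyp_injective m))

theorem slToMinus_injective (m : ℕ) (a b : F) : Function.Injective (slToMinus m F a b) :=
  toIsometry_injective _ _ _ (padR_injective _ (hyp_injective m))

/-- Even permutations in `SUₙ`. -/
def altToSU (n : ℕ) (F : Type*) [Field F] (q : ℕ) :
    alternatingGroup (Fin n) →* SU n F q :=
  (altToSL n F).codRestrict _ fun σ u v => by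
    change hermForm n F q (((σ : Perm (Fin n))⁻¹.permMatrix F) *ᵥ u)
      (((σ : Perm (Fin n))⁻¹.permMatrix F) *ᵥ v) = _
    simp only [permMatrix_mulVec, hermForm, Function.comp_apply]
    exact Equiv.sum_comp (σ : Perm (Fin n))⁻¹ (fun i => u i * v i ^ q)

end embeddings

section unitary

variable {F : Type*} [Field F]

/-- Determinant-preserving conjugation by an invertible matrix, after a change of scalars. -/
noncomputable def twist {E : Type*} [Field E] (ι : E →+* F) (T : Matrix (Fin 2) (Fin 2) F)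
    (hT : IsUnit T.det) : SpecialLinearGroup (Fin 2) E →* SpecialLinearGroup (Fin 2) F where
  toFun A := ⟨T * ι.mapMatrix (A : Matrix (Fin 2) (Fin 2) E) * T⁻¹, by
    rw [det_mul, det_mul, det_nonsing_inv, ← RingHom.map_det, A.2, map_one, mul_one,
      Ring.mul_inverse_cancel _ hT]⟩
  map_one' := by
    apply Subtype.ext
    simp [Matrix.mul_nonsing_inv T hT]
  map_mul' A B := by
    apply Subtype.ext
    show T * ι.mapMatrix (A.1 * B.1) * T⁻¹ = T * ι.mapMatrix A.1 * T⁻¹ * (T * ι.mapMatrix B.1 * T⁻¹)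
    simp only [map_mul]
    rw [show T * ι.mapMatrix (A : Matrix (Fin 2) (Fin 2) E) * T⁻¹ *
        (T * ι.mapMatrix (B : Matrix (Fin 2) (Fin 2) E) * T⁻¹) =
        T * ι.mapMatrix (A : Matrix (Fin 2) (Fin 2) E) * (T⁻¹ * T) *
          ι.mapMatrix (B : Matrix (Fin 2) (Fin 2) E) * T⁻¹ by simp only [Matrix.mul_assoc]]
    rw [Matrix.nonsing_inv_mul T hT, Matrix.mul_one]
    simp only [Matrix.mul_assoc]

theorem twist_injective {E : Type*} [Field E] (ι : E →+* F) (T : Matrix (Fin 2) (Fin 2) F)
    (hT : IsUnit T.det) : Function.Injective (twist ι T hT) := by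
  intro A B h
  have h' : T * ι.mapMatrix (A : Matrix (Fin 2) (Fin 2) E) * T⁻¹ =
      T * ι.mapMatrix (B : Matrix (Fin 2) (Fin 2) E) * T⁻¹ := congrArg Subtype.val h
  have h'' := congrArg (fun M => T⁻¹ * M * T) h'
  simp only [← Matrix.mul_assoc, Matrix.nonsing_inv_mul T hT, Matrix.one_mul] at h''
  simp only [Matrix.mul_assoc, Matrix.nonsing_inv_mul T hT, Matrix.mul_one] at h''
  apply Subtype.ext
  ext i j
  exact ι.injective (congrFun (congrFun h'' i) j)

variable [Fintype F]

theorem exists_sl2_to_su (q : ℕ) (hF : Fintype.card F = q ^ 2) :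
    ∃ (E : Subfield F) (T : Matrix (Fin 2) (Fin 2) F) (hT : IsUnit T.det),
      q - 1 ≤ Nat.card E ∧ ∀ A u v,
        hermForm 2 F q ((twist E.subtype T hT A : Matrix (Fin 2) (Fin 2) F) *ᵥ u)
          ((twist E.subtype T hT A : Matrix (Fin 2) (Fin 2) F) *ᵥ v) = hermForm 2 F q u v := by
  classical
  have hq2 : 2 ≤ q := by
    by_contra h
    have : Fintype.card F ≤ 1 ^ 2 := hF ▸ Nat.pow_le_pow_left (by omega) 2
    have := Fintype.one_lt_card (α := F)
    simp at *
    omega
  obtain ⟨p, hpc⟩ := CharP.exists F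
  obtain ⟨k, hp, hk⟩ := FiniteField.card F p
  haveI := Fact.mk hp
  obtain ⟨j, -, hj⟩ := (Nat.dvd_prime_pow hp).1
    (show q ∣ p ^ (k : ℕ) from hk ▸ hF ▸ ⟨q, sq q⟩)
  let σ : F →+* F := iterateFrobenius F p j
  have hσ : ∀ x, σ x = x ^ q := fun x => by simp [σ, iterateFrobenius_def, hj]
  have hσσ : ∀ x, σ (σ x) = x := fun x => by
    rw [hσ, hσ, ← pow_mul, ← sq, ← hF, FiniteField.pow_card]
  obtain ⟨g, hg⟩ := IsCyclic.exists_monoid_generator (α := Fˣ)
  have hgo : orderOf g = q ^ 2 - 1 := by
    have h1 : orderOf g = Nat.card Fˣ := orderOf_eq_card_of_forall_mem_zpowers fun x =>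
      mem_powers_iff_mem_zpowers.1 (hg x)
    rw [h1, Nat.card_units, Nat.card_eq_fintype_card, hF]
  have hfac : q ^ 2 - 1 = (q + 1) * (q - 1) := by
    rw [← Nat.sq_sub_sq, one_pow]
  -- `a` of norm `-1` and a non-zero `δ` of trace zero
  obtain ⟨a, δ, ha, hδ0, hδ⟩ : ∃ a δ : F, a ^ (q + 1) = -1 ∧ δ ≠ 0 ∧ σ δ = -δ := by
    rcases Nat.even_or_odd q with he | ho
    · have h2 : (2 : F) = 0 := by
        have : p = 2 := by
          rw [hj] at he
          exact (hp.eq_two_or_odd').resolve_right fun h =>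
            Nat.not_even_iff_odd.2 (h.pow) he
        subst this
        exact_mod_cast CharP.cast_eq_zero F 2
      have hneg : (-1 : F) = 1 := by linear_combination -h2
      exact ⟨1, 1, by rw [one_pow, hneg], one_ne_zero, by rw [map_one, hneg]⟩
    · obtain ⟨r, hr⟩ := ho
      have hhalf : ((g : F) ^ (2 * r * (r + 1))) = -1 := by
        have hq' : q ^ 2 - 1 = 2 * (2 * r * (r + 1)) := by rw [hr]; ring_nf; omega
        have hsq : ((g : F) ^ (2 * r * (r + 1))) * ((g : F) ^ (2 * r * (r + 1))) = 1 := by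
          rw [← pow_add, ← two_mul, ← hq', ← hgo, ← Units.val_pow_eq_pow_val, pow_orderOf_eq_one]
          rfl
        rcases mul_self_eq_one_iff.1 hsq with h | h
        · exfalso
          have h' : g ^ (2 * r * (r + 1)) = 1 := Units.ext (by simpa using h)
          have hd := orderOf_dvd_of_pow_eq_one h'
          rw [hgo, hq'] at hd
          have hpos : 0 < 2 * r * (r + 1) := by
            have : 0 < r := by omega
            positivity
          have := Nat.le_of_dvd hpos hd
          omega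
        · exact h
      refine ⟨(g : F) ^ r, (g : F) ^ (r + 1), ?_, pow_ne_zero _ g.ne_zero, ?_⟩
      · rw [← hhalf, ← pow_mul, hr]; congr 1; ring
      · rw [hσ, neg_eq_neg_one_mul, ← hhalf, ← pow_mul, ← pow_add, hr]; congr 1; ring
  have ha' : a * σ a = -1 := by rw [hσ, ← pow_succ', ha]
  set ζ : F := (g : F) ^ (q - 1) with hζdef
  have hζ : ζ * σ ζ = 1 := by
    rw [hσ, ← pow_succ', hζdef, ← pow_mul, mul_comm, ← hfac, ← hgo, ← Units.val_pow_eq_pow_val,
      pow_orderOf_eq_one]
    rfl
  have hζ1 : ζ ≠ 1 := by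
    intro h
    have h' : g ^ (q - 1) = 1 := Units.ext (by simpa [hζdef] using h)
    have := Nat.le_of_dvd (by omega) (orderOf_dvd_of_pow_eq_one h')
    rw [hgo, hfac] at this
    have : 3 * (q - 1) ≤ (q + 1) * (q - 1) := Nat.mul_le_mul_right _ (by omega)
    omega
  set b := a * ζ with hbdef
  set c := 1 + a * σ b with hcdef
  have hb : b * σ b = -1 := by rw [hbdef, map_mul]; linear_combination ζ * σ ζ * ha' - hζ
  have hc : c = 1 - σ ζ := by rw [hcdef, hbdef, map_mul]; linear_combination σ ζ * ha'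
  have hc0 : c ≠ 0 := by
    rw [hc, sub_ne_zero]
    intro h
    apply hζ1
    rw [← hσσ ζ, ← h, map_one]
  set l := σ (δ / c) with hldef
  have hl : c * σ l = δ := by rw [hldef, hσσ]; field_simp
  let T : Matrix (Fin 2) (Fin 2) F := !![1, l; a, l * b]
  have hT : IsUnit T.det := by
    have ha0 : a ≠ 0 := fun h => by simp [h] at ha'
    have hl0 : l ≠ 0 := fun h => hδ0 (by rw [← hl, h, map_zero, mul_zero])
    rw [isUnit_iff_ne_zero, Matrix.det_fin_two_of, hbdef]
    intro h
    exact hζ1 (mul_left_cancel₀ (mul_ne_zero hl0 ha0) (by linear_combination h))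
  let E := σ.eqLocusField (RingHom.id F)
  refine ⟨E, T, hT, ?_, ?_⟩
  · have hd : ∀ i : ℕ, ((g : F) ^ (q + 1)) ^ i ∈ E := fun i => by
      apply pow_mem
      change σ _ = _
      rw [hσ, RingHom.id_apply, ← pow_mul]
      have h1 : (q + 1) * q = (q + 1) + (q ^ 2 - 1) := by
        rw [hfac]
        calc (q + 1) * q = (q + 1) * (q - 1 + 1) := by congr 1; omega
          _ = _ := by ring
      rw [h1, pow_add, ← hgo, ← Units.val_pow_eq_pow_val g (orderOf g), pow_orderOf_eq_one,
        Units.val_one, mul_one]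
    let f : Fin (q - 1) → E := fun i => ⟨_, hd i⟩
    have hf : Function.Injective f := by
      intro i j h
      have h' : g ^ ((q + 1) * (i : ℕ)) = g ^ ((q + 1) * (j : ℕ)) :=
        Units.ext (by simpa [f, pow_mul] using h)
      have hlt : ∀ i : Fin (q - 1), (q + 1) * (i : ℕ) < orderOf g := fun i => by
        rw [hgo, hfac]; exact Nat.mul_lt_mul_of_pos_left i.2 (by omega)
      have := pow_injOn_Iio_orderOf (hlt i) (hlt j) h'
      exact Fin.ext (Nat.eq_of_mul_eq_mul_left (by omega) this)
    simpa using Nat.card_le_card_of_injective f hf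
  · intro A u v
    have key : ∀ x y : Fin 2 → F, hermForm 2 F q (T *ᵥ x) (T *ᵥ y)
        = δ * (x 0 * σ (y 1) - x 1 * σ (y 0)) := by
      intro x y
      have e1 : σ δ = σ c * l := by rw [← hl, map_mul, hσσ]
      have e2 : σ c = 1 + σ a * b := by rw [hcdef, map_add, map_one, map_mul, hσσ]
      simp only [hermForm, ← hσ, T, Matrix.mulVec, dotProduct, Fin.sum_univ_two, Matrix.of_apply,
        Matrix.cons_val', Matrix.cons_val_zero, Matrix.cons_val_one, Matrix.cons_val_fin_one,
        map_add, map_mul, map_one]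
      rw [hcdef] at hl
      rw [e2] at e1
      linear_combination (x 0 * σ (y 0)) * ha' + (x 1 * l * σ l * σ (y 1)) * hb +
        (x 0 * σ (y 1)) * hl - (x 1 * σ (y 0)) * e1 + (x 1 * σ (y 0)) * hδ
    have hM : (twist E.subtype T hT A : Matrix (Fin 2) (Fin 2) F)
        = T * E.subtype.mapMatrix (A : Matrix (Fin 2) (Fin 2) E) * T⁻¹ := rfl
    have hback : ∀ x, x = T *ᵥ (T⁻¹ *ᵥ x) := fun x => by
      rw [mulVec_mulVec, Matrix.mul_nonsing_inv T hT, one_mulVec]
    rw [hM, ← mulVec_mulVec, ← mulVec_mulVec, ← mulVec_mulVec, ← mulVec_mulVec]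
    conv_rhs => rw [hback u, hback v]
    rw [key, key]
    generalize T⁻¹ *ᵥ u = x
    generalize T⁻¹ *ᵥ v = y
    have hfix : ∀ i j, σ ((A : Matrix (Fin 2) (Fin 2) E) i j : F)
        = ((A : Matrix (Fin 2) (Fin 2) E) i j : F) := fun i j =>
      ((A : Matrix (Fin 2) (Fin 2) E) i j).2
    have hdet := congrArg (fun z : E => (z : F)) A.2
    simp only [Matrix.det_fin_two, Subfield.coe_sub, Subfield.coe_mul, Subfield.coe_one] at hdet
    simp only [RingHom.mapMatrix_apply, Matrix.mulVec, dotProduct, Fin.sum_univ_two,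
      Matrix.map_apply, Subfield.coe_subtype, map_add, map_mul, hfix]
    linear_combination δ * (x 0 * σ (y 1) - x 1 * σ (y 0)) * hdet

theorem hermForm_block {n q : ℕ} (hn : 2 ≤ n) (M : Matrix (Fin 2) (Fin 2) F)
    (hM : ∀ u v, hermForm 2 F q (M *ᵥ u) (M *ᵥ v) = hermForm 2 F q u v) (u v : Fin n → F) :
    hermForm n F q
      ((fromBlocks M 0 0 (1 : Matrix (Fin (n - 2)) (Fin (n - 2)) F)).submatrix (split n hn).symm
        (split n hn).symm *ᵥ u)
      ((fromBlocks M 0 0 (1 : Matrix (Fin (n - 2)) (Fin (n - 2)) F)).submatrix (split n hn).symm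
        (split n hn).symm *ᵥ v) = hermForm n F q u v := by
  have h := hM ((u ∘ split n hn) ∘ Sum.inl) ((v ∘ split n hn) ∘ Sum.inl)
  simp only [hermForm] at h ⊢
  rw [← Equiv.sum_comp (split n hn), ← Equiv.sum_comp (split n hn) fun i => u i * v i ^ q,
    Fintype.sum_sum_type, Fintype.sum_sum_type]
  simp only [submatrix_mulVec_equiv, Function.comp_apply, Equiv.symm_apply_apply,
    fromBlocks_mulVec, Sum.elim_inl, Sum.elim_inr, zero_mulVec, add_zero, zero_add, one_mulVec,
    Equiv.symm_symm]
  rw [h]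
  rfl

end unitary

section families

theorem commutator_sl2_eq_top {E : Type*} [Field E] [Fintype E] (h : 4 ≤ Fintype.card E) :
    commutator (SpecialLinearGroup (Fin 2) E) = ⊤ := by
  classical
  obtain ⟨a, ha⟩ : ∃ a : E, a ∉ ({0, 1, -1} : Finset E) := by
    by_contra hc
    push Not at hc
    have : Fintype.card E ≤ 3 := by
      rw [← Finset.card_univ]
      exact (Finset.card_le_card fun a _ => hc a).trans Finset.card_le_three
    omega
  simp only [Finset.mem_insert, Finset.mem_singleton, not_or] at ha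
  exact Matrix.SL2.commutator_eq_top ha.1 fun hsq => by
    rcases sq_eq_one_iff.1 hsq with h | h <;> tauto

theorem commutator_alt_eq_top {n : ℕ} (hn : 5 ≤ n) : commutator (alternatingGroup (Fin n)) = ⊤ :=
  commutator_alternatingGroup_eq_top (by simpa using hn)

/-- Either the Lie rank or the field is large. -/
def Large (M n q : ℕ) : Prop := M ≤ n ∨ M ≤ q

/-- A bound beyond which `A_n` and `SL₂(q)` have non-central values of `w`. -/
theorem exists_threshold.{u} (w : FreeGroup ℕ) (hw : w ≠ 1) :
    ∃ M : ℕ, 5 ≤ M ∧ (∀ n, M ≤ n → NC w (alternatingGroup (Fin n))) ∧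
      ∀ (F : Type u) [Field F] [Fintype F], M ≤ Fintype.card F + 1 →
        NC w (SpecialLinearGroup (Fin 2) F) := by
  obtain ⟨N, hN⟩ := nc_alternating w hw
  obtain ⟨N', hN'⟩ := nc_sl2.{u} w hw
  exact ⟨max (max N (N' + 1)) 5, le_max_right _ _, fun n hn => hN n (by omega),
    fun F _ _ hc => hN' F (by omega)⟩

variable {w : FreeGroup ℕ} {M : ℕ} {F : Type*} [Field F] [Fintype F]
  (hA : ∀ n, M ≤ n → NC w (alternatingGroup (Fin n)))
  (hS : M ≤ Fintype.card F → NC w (SpecialLinearGroup (Fin 2) F))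

include hA hS

theorem nc_sl {n : ℕ} (hn : 2 ≤ n) (h : Large M n (Fintype.card F)) :
    NC w (SpecialLinearGroup (Fin n) F) := by
  rcases h with h | h
  · exact (hA n h).map (altToSL n F) (altToSL_injective n)
  · exact (hS h).map (blockSL n hn F) (blockSL_injective n hn)

theorem nc_sp {n : ℕ} (hn : 2 ≤ n) (h : Large M n (Fintype.card F)) :
    NC w (symplecticGroup (Fin n) F) :=
  (nc_sl hA hS hn h).map (slToSp n F) (slToSp_injective n)

theorem nc_derived {n : ℕ} (hn : 2 ≤ n) (hM : 5 ≤ M) (h : Large M n (Fintype.card F)) {H : Type*}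
    [Group H] (φ : SpecialLinearGroup (Fin n) F →* H) (hφ : Function.Injective φ) :
    NC w ↥(commutator H) := by
  rcases h with h | h
  · exact nc_commutator (hA n h) (φ.comp (altToSL n F)) (hφ.comp (altToSL_injective n))
      (commutator_alt_eq_top (by omega))
  · exact nc_commutator (hS h) (φ.comp (blockSL n hn F)) (hφ.comp (blockSL_injective n hn))
      (commutator_sl2_eq_top (by omega))

omit hS in
theorem nc_su {n q : ℕ} (hn : 2 ≤ n) (hF : Fintype.card F = q ^ 2)
    (hS' : ∀ (E : Subfield F), M ≤ Nat.card E + 1 → NC w (SpecialLinearGroup (Fin 2) E))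
    (h : Large M n q) : NC w (SU n F q) := by
  rcases h with h | h
  · exact (hA n h).map (altToSU n F q) fun a b e =>
      altToSL_injective n (congrArg Subtype.val e)
  · obtain ⟨E, T, hT, hc, hh⟩ := exists_sl2_to_su q hF
    let φ : SpecialLinearGroup (Fin 2) E →* SU n F q :=
      ((blockSL n hn F).comp (twist E.subtype T hT)).codRestrict _
        fun A u v => hermForm_block hn _ (hh A) u v
    exact (hS' E (by omega)).map φ fun a b e =>
      twist_injective E.subtype T hT (blockSL_injective n hn (congrArg Subtype.val e))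

end families

end Cfsg.Agent.Law
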